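import Groth.Agent.DualAbs.PnTop
import Groth.Agent.DualAbs.ClosedDual
import Groth.Agent.InjMod.ExtRestr
import Groth.Agent.ChgRings.Derived
import Groth.Agent.KFlat.PushRestrict
import Groth.Agent.AmpCrit.AffineHom
import Groth.Agent.ExtPowSt.OmegaBC
import Groth.Agent.GeomLoc.SmoothRegular
import Groth.Agent.S9776
import Groth.Agent.S6472
import Groth.Agent.S11906
import Groth.Agent.S11903
import Groth.Agent.S11318

/-!
# The dualizing sheaf of a projective surface on its regular locus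
-/

set_option autoImplicit false
set_option linter.style.haveILetI false
set_option maxHeartbeats 1000000

universe u

open CategoryTheory CategoryTheory.Limits AlgebraicGeometry TopologicalSpace

noncomputable section

namespace Groth.Agent.DualRegLocus

variable {k : Type u} [Field k] {X : Scheme.{u}} [X.Over (Spec (CommRingCat.of k))]

/-- The regular open of a projective surface is smooth of relative dimension two. -/
theorem smoothOfRelativeDimension_opens [PerfectField k] [IsIntegral X]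
    [LocallyOfFiniteType (X ↘ Spec (CommRingCat.of k))] {n : ℕ} (hdim : topologicalKrullDim X = (n : WithBot ℕ∞))
    (U : X.Opens) (hne : (U : Set X).Nonempty) (hreg : ∀ x : X, x ∈ U → IsRegularLocalRing (X.presheaf.stalk x)) :
    SmoothOfRelativeDimension n (U.ι ≫ (X ↘ Spec (CommRingCat.of k))) := by
  letI : (U : Scheme.{u}).Over (Spec (CommRingCat.of k)) := ⟨U.ι ≫ (X ↘ Spec (CommRingCat.of k))⟩
  haveI : Nonempty (U : Scheme.{u}) := hne.to_subtype
  haveI : IsIntegral (U : Scheme.{u}) := isIntegral_of_isOpenImmersion U.ι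
  haveI : LocallyOfFiniteType ((U : Scheme.{u}) ↘ Spec (CommRingCat.of k)) :=
    inferInstanceAs (LocallyOfFiniteType (U.ι ≫ (X ↘ Spec (CommRingCat.of k))))
  haveI : LocallyOfFinitePresentation ((U : Scheme.{u}) ↘ Spec (CommRingCat.of k)) :=
    LocallyOfFinitePresentation.iff_locallyOfFiniteType.2 inferInstance
  haveI : Smooth ((U : Scheme.{u}) ↘ Spec (CommRingCat.of k)) := by
    rw [← Scheme.Hom.smoothLocus_eq_top_iff]
    refine top_le_iff.mp fun x _ => ?_
    refine (GeomLoc.mem_smoothLocus_iff_isRegularLocalRing x ?_).2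
      (GeomLoc.isRegularLocalRing_congr _ _ (asIso (U.ι.stalkMap x)).commRingCatIsoToRingEquiv (hreg _ x.2))
    letI := Curv2.resAlgebra k (U : Scheme.{u}) x
    exact FBase.TensorAlgClosed.isGeometricallyReduced_of_perfectField
  have hd : topologicalKrullDim (U : Scheme.{u}) = (n : WithBot ℕ∞) := by
    obtain ⟨x, hx⟩ := hne
    refine le_antisymm ?_ ?_
    · rw [← hdim]
      exact U.ι.isOpenEmbedding.isInducing.topologicalKrullDim_le
    · refine le_trans (le_of_eq ?_) (VarDim.le_topologicalKrullDim_opens k U hx (genericPoint_specializes x))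
      rw [← hdim]
      exact VarDim.topologicalKrullDim_eq_of_irreducible k
  exact S6472.smoothOfRelativeDimension_of_dim (X := (U : Scheme.{u})) n hd

theorem nonempty_iso [IsAlgClosed k] (N : ℕ) [IsIntegral X] {n : ℕ} (hdim : topologicalKrullDim X = (n : WithBot ℕ∞))
    (ι : X ⟶ CohB1.ProjSpace N k) [IsClosedImmersion ι]
    (hι : ι ≫ CohB1.ProjSpace.toSpec N k = X ↘ (Spec (CommRingCat.of k)))
    (U : X.Opens) (hne : (U : Set X).Nonempty) (hreg : ∀ x : X, x ∈ U → IsRegularLocalRing (X.presheaf.stalk x))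
    (ω : X.Modules) (hωcoh : Coh.IsCoh ω) (t : Coh.HH X ω n →ₗ[k] k)
    (hdual : ∀ F : X.Modules, Coh.IsCoh F → ∀ ψ : Coh.HH X F n →ₗ[k] k,
        ∃! φ : F ⟶ ω, ∀ x : Coh.HH X F n,
          ψ x = t (Sheaf.H.map ((SheafOfModules.toSheaf X.ringCatSheaf).map φ) n x))
    (W : (U : Scheme.{u}).Modules) (hW : ExtPow.IsExtPow n (Omega.sheaf (U.ι ≫ (X ↘ (Spec (CommRingCat.of k))))) W) :
    Nonempty ((Scheme.Modules.restrictFunctor U.ι).obj ω ≅ W) := by
  obtain ⟨V, rfl⟩ : ∃ V : (CohB1.ProjSpace N k).Opens, U = ι ⁻¹ᵁ V := by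
    obtain ⟨V, hV, hVU⟩ := ι.isClosedEmbedding.isInducing.isOpen_iff.1 U.2
    exact ⟨⟨V, hV⟩, SetLike.coe_injective hVU.symm⟩
  let P := CohB1.ProjSpace N k
  let g : P ⟶ Spec (CommRingCat.of k) := CohB1.ProjSpace.toSpec N k
  haveI : IsLocallyNoetherian P := SerrePn.isLocallyNoetherian (n := N) (R := k)
  haveI : IsProper g := ProjProper.Basic.isProper_toSpec N k
  haveI : IsProper (X ↘ Spec (CommRingCat.of k)) := by rw [← hι]; infer_instance
  haveI : ModSite.HasSheafHom (O := P.sheaf) ((Scheme.Modules.pushforward ι).obj (Coh.structureModule X)) :=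
    KFlat.hasSheafHom _ _
  haveI : EnoughInjectives (ModSite.Mod P.sheaf) := GrothSS.Main.enoughInjectives
  haveI : HasInjectiveResolutions (ModSite.Mod P.sheaf) := inferInstance
  haveI : EnoughInjectives (ModSite.Mod (V : Scheme.{u}).sheaf) := GrothSS.Main.enoughInjectives
  haveI : HasInjectiveResolutions (ModSite.Mod (V : Scheme.{u}).sheaf) := inferInstance
  have hn : n ≤ N := DualAbs.le_dim ι hdim
  -- the standard dualizing sheaf
  let T := Twist.twistProjSpace N k (-((N : ℤ) + 1))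
  let ω' : X.Modules := ((ChgRings.T ι (Coh.structureModule X)).rightDerived (N - n)).obj T
  let eω : (Scheme.Modules.pushforward ι).obj ω' ≅
      (ModSite.extSh (O := P.sheaf) ((Scheme.Modules.pushforward ι).obj (Coh.structureModule X)) (N - n)).obj T :=
    (ChgRings.pushDerivedTIso ι (Coh.structureModule X) (N - n)).app T
  have heq : ∀ Z : Set ↥X, Z ∈ irreducibleComponents ↥X → topologicalKrullDim ↥Z = (n : WithBot ℕ∞) := by
    intro Z hZ
    rw [irreducibleComponents_eq_singleton, Set.mem_singleton_iff] at hZ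
    subst hZ
    rw [IsHomeomorph.topologicalKrullDim_eq _ (Homeomorph.Set.univ _).isHomeomorph]
    exact hdim
  obtain ⟨t', ht'⟩ := S11903.result k N n hn X ι hι heq ω' ⟨eω⟩
  obtain ⟨φ, hφ, -⟩ := S11318.result k X n hdim ω ω' hωcoh (DualAbs.isCoh_of_extSh ι ⟨eω⟩) t t' hdual ht'
  -- the open of projective space
  let i : (ι ⁻¹ᵁ V : Scheme.{u}) ⟶ (V : Scheme.{u}) := ι ∣_ V
  haveI : LocallyOfFiniteType (X ↘ Spec (CommRingCat.of k)) := inferInstance
  have hsm := smoothOfRelativeDimension_opens (k := k) hdim (ι ⁻¹ᵁ V) hne hreg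
  haveI := DualAbs.PnTop.smoothOfRelativeDimension_toSpec N k
  haveI : SmoothOfRelativeDimension N (V.ι ≫ g) :=
    IsZariskiLocalAtSource.comp (P := @SmoothOfRelativeDimension.{u} N) inferInstance V.ι
  have hi : i ≫ V.ι ≫ g = (ι ⁻¹ᵁ V).ι ≫ (X ↘ Spec (CommRingCat.of k)) := by
    rw [← Category.assoc, morphismRestrict_ι, Category.assoc, hι]
  -- top forms
  obtain ⟨L, hL⟩ := haveI := (VBLib.isCoh_of_ofRank (CanonTriv.isFinLocFreeOfRank_omega g N)).1
    ExtPowSt.Exists.exists_isExtPow N (Omega.sheaf g)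
  obtain ⟨eL⟩ := DualAbs.PnTop.nonempty_top_iso N k hL
  obtain ⟨c, hc, -⟩ := Omega.Basic.existsUnique_diffCompat (h := V.ι) (b := 𝟙 _) (f' := V.ι ≫ g) (f := g)
    (Category.comp_id _) (Omega.DiagUniv.isUniversal_dOmega g) (OmegaSh.dOmega (V.ι ≫ g))
  haveI : IsIso c := S9776.result g (V.ι ≫ g) V.ι (𝟙 _) (Category.comp_id _).symm _ _
    (Omega.DiagUniv.isUniversal_dOmega g) _ _ (Omega.DiagUniv.isUniversal_dOmega (V.ι ≫ g)) c hc
  have hLV := ExtPowSt.OmegaBC.isExtPow_pullback_omega (asIso c) hL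
  haveI : ModSite.HasSheafHom (O := (V : Scheme.{u}).sheaf) ((Scheme.Modules.pushforward i).obj
      (Coh.structureModule (ι ⁻¹ᵁ V : Scheme.{u}))) := KFlat.hasSheafHom _ _
  haveI : ModSite.HasSheafHom (O := (V : Scheme.{u}).sheaf)
      (((Scheme.Modules.pushforward ι).obj (Coh.structureModule X)).restrict V.ι) := KFlat.hasSheafHom _ _
  obtain ⟨eW⟩ := S11906.result (Spec (CommRingCat.of k)) (V : Scheme.{u}) (ι ⁻¹ᵁ V : Scheme.{u}) (V.ι ≫ g)
    ((ι ⁻¹ᵁ V).ι ≫ (X ↘ Spec (CommRingCat.of k))) i hi N n _ hLV W hW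
  obtain ⟨eR⟩ := InjMod.nonempty_extSh_restrict V ((Scheme.Modules.pushforward ι).obj (Coh.structureModule X)) T (N - n)
  let eF : ((Scheme.Modules.pushforward ι).obj (Coh.structureModule X)).restrict V.ι ≅
      (Scheme.Modules.pushforward i).obj (Coh.structureModule (ι ⁻¹ᵁ V : Scheme.{u})) :=
    (KFlat.PushRestrict.pushRestrictIso ι V).app (Coh.structureModule X) ≪≫
      (Scheme.Modules.pushforward i).mapIso (AmpCrit.restrictUnitIso (ι ⁻¹ᵁ V).ι)
  let eT : T.restrict V.ι ≅ (Scheme.Modules.pullback V.ι).obj L :=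
    (Scheme.Modules.restrictFunctorIsoPullback V.ι).app T ≪≫ (Scheme.Modules.pullback V.ι).mapIso eL.symm
  haveI : (ModSite.sheafHom (O := (V : Scheme.{u}).sheaf)
      (((Scheme.Modules.pushforward ι).obj (Coh.structureModule X)).restrict V.ι)).Additive := ChgRings.sheafHom_additive _
  haveI : (ModSite.sheafHom (O := (V : Scheme.{u}).sheaf) ((Scheme.Modules.pushforward i).obj
      (Coh.structureModule (ι ⁻¹ᵁ V : Scheme.{u})))).Additive := ChgRings.sheafHom_additive _
  let eE := (ExtSuppLib.rightDerivedMapIso (ChgRings.sheafHomCongr (P := (V : Scheme.{u})) eF) (N - n)).app (T.restrict V.ι) ≪≫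
    (ModSite.extSh (O := (V : Scheme.{u}).sheaf) ((Scheme.Modules.pushforward i).obj
      (Coh.structureModule (ι ⁻¹ᵁ V : Scheme.{u}))) (N - n)).mapIso eT
  let e : (Scheme.Modules.restrictFunctor (ι ⁻¹ᵁ V).ι).obj ω' ≅ W :=
    (Props.KilledSub.fullyFaithful i).preimageIso
      ((KFlat.PushRestrict.pushRestrictIso ι V).symm.app ω' ≪≫
        (Scheme.Modules.restrictFunctor V.ι).mapIso eω ≪≫ eR ≪≫ eE ≪≫ eW.symm)
  exact ⟨(Scheme.Modules.restrictFunctor (ι ⁻¹ᵁ V).ι).mapIso (@asIso _ _ _ _ φ hφ) ≪≫ e⟩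

end Groth.Agent.DualRegLocus
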